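import Cfsg.Agent.Helper28.SZL1.Data

set_option autoImplicit false

namespace Cfsg.Agent.Helper28.SZL1

theorem lb4_0 : Cfsg.Agent.Helper28.ptChunk (Cfsg.Agent.Helper28.lbPt Cfsg.Agent.Helper28.C1680.T 1782 W4 ov4 op4 otp4 otw4) 180 256 0 = true := by decide +kernel

end Cfsg.Agent.Helper28.SZL1
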