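import Cfsg.Agent.Helper28.C1680.Cert
import Cfsg.Agent.Helper28.SZL1.Lb2_0
import Cfsg.Agent.Helper28.SZL1.Lb3_0
import Cfsg.Agent.Helper28.SZL1.Lb4_0
import Cfsg.Agent.Helper28.SZL1.Eq_z0_0
import Cfsg.Agent.Helper28.SZL1.Eq_z1_0
import Cfsg.Agent.Helper28.SZL1.Eq_z2_0
import Cfsg.Agent.Helper28.SZL1.Eq_z3_0
import Cfsg.Agent.Helper28.SZL1.Eq_z5_0
import Cfsg.Agent.Helper28.SZL1.Eq_z6_0

set_option autoImplicit false

namespace Cfsg.Agent.Helper28.SZL1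

theorem lb2_all : ∀ t, t < 1365 → Cfsg.Agent.Helper28.lbPt Cfsg.Agent.Helper28.C1680.T 1782 W2 ov2 op2 otp2 otw2 t = true :=
  Cfsg.Agent.Helper28.pts_of_chunks _ 1365 256 6 (by decide) (by decide)
    (Cfsg.Agent.Helper28.allLt_succ _ 5 (Cfsg.Agent.Helper28.allLt_succ _ 4 (Cfsg.Agent.Helper28.allLt_succ _ 3 (Cfsg.Agent.Helper28.allLt_succ _ 2 (Cfsg.Agent.Helper28.allLt_succ _ 1 (Cfsg.Agent.Helper28.allLt_succ _ 0 (Cfsg.Agent.Helper28.allLt_zero _) lb2_0) lb2_1) lb2_2) lb2_3) lb2_4) lb2_5)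

theorem fix2 : Cfsg.Agent.Helper28.fixChk Cfsg.Agent.Helper28.C1680.T 7 W2 [0] = true := by decide +kernel

theorem lb3_all : ∀ t, t < 1024 → Cfsg.Agent.Helper28.lbPt Cfsg.Agent.Helper28.C1680.T 1782 W3 ov3 op3 otp3 otw3 t = true :=
  Cfsg.Agent.Helper28.pts_of_chunks _ 1024 256 4 (by decide) (by decide)
    (Cfsg.Agent.Helper28.allLt_succ _ 3 (Cfsg.Agent.Helper28.allLt_succ _ 2 (Cfsg.Agent.Helper28.allLt_succ _ 1 (Cfsg.Agent.Helper28.allLt_succ _ 0 (Cfsg.Agent.Helper28.allLt_zero _) lb3_0) lb3_1) lb3_2) lb3_3)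

theorem fix3 : Cfsg.Agent.Helper28.fixChk Cfsg.Agent.Helper28.C1680.T 7 W3 [ov2 0, 0] = true := by decide +kernel

theorem lb4_all : ∀ t, t < 180 → Cfsg.Agent.Helper28.lbPt Cfsg.Agent.Helper28.C1680.T 1782 W4 ov4 op4 otp4 otw4 t = true :=
  Cfsg.Agent.Helper28.pts_of_chunks _ 180 256 1 (by decide) (by decide)
    (Cfsg.Agent.Helper28.allLt_succ _ 0 (Cfsg.Agent.Helper28.allLt_zero _) lb4_0)

theorem fix4 : Cfsg.Agent.Helper28.fixChk Cfsg.Agent.Helper28.C1680.T 7 W4 [ov3 0, ov2 0, 0] = true := by decide +kernel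

theorem eq_z0_all : ∀ i, i < 1782 → Cfsg.Agent.Helper28.eqPt Cfsg.Agent.Helper28.C1680.T z0_l z0_r i = true :=
  Cfsg.Agent.Helper28.pts_of_chunks _ 1782 512 4 (by decide) (by decide)
    (Cfsg.Agent.Helper28.allLt_succ _ 3 (Cfsg.Agent.Helper28.allLt_succ _ 2 (Cfsg.Agent.Helper28.allLt_succ _ 1 (Cfsg.Agent.Helper28.allLt_succ _ 0 (Cfsg.Agent.Helper28.allLt_zero _) eq_z0_0) eq_z0_1) eq_z0_2) eq_z0_3)

theorem eq_z0_let : (∀ a ∈ z0_l, a < 7) ∧ (∀ a ∈ z0_r, a < 7) := by decide +kernel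

theorem eq_z1_all : ∀ i, i < 1782 → Cfsg.Agent.Helper28.eqPt Cfsg.Agent.Helper28.C1680.T z1_l z1_r i = true :=
  Cfsg.Agent.Helper28.pts_of_chunks _ 1782 512 4 (by decide) (by decide)
    (Cfsg.Agent.Helper28.allLt_succ _ 3 (Cfsg.Agent.Helper28.allLt_succ _ 2 (Cfsg.Agent.Helper28.allLt_succ _ 1 (Cfsg.Agent.Helper28.allLt_succ _ 0 (Cfsg.Agent.Helper28.allLt_zero _) eq_z1_0) eq_z1_1) eq_z1_2) eq_z1_3)

theorem eq_z1_let : (∀ a ∈ z1_l, a < 7) ∧ (∀ a ∈ z1_r, a < 7) := by decide +kernel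

theorem eq_z2_all : ∀ i, i < 1782 → Cfsg.Agent.Helper28.eqPt Cfsg.Agent.Helper28.C1680.T z2_l z2_r i = true :=
  Cfsg.Agent.Helper28.pts_of_chunks _ 1782 512 4 (by decide) (by decide)
    (Cfsg.Agent.Helper28.allLt_succ _ 3 (Cfsg.Agent.Helper28.allLt_succ _ 2 (Cfsg.Agent.Helper28.allLt_succ _ 1 (Cfsg.Agent.Helper28.allLt_succ _ 0 (Cfsg.Agent.Helper28.allLt_zero _) eq_z2_0) eq_z2_1) eq_z2_2) eq_z2_3)

theorem eq_z2_let : (∀ a ∈ z2_l, a < 7) ∧ (∀ a ∈ z2_r, a < 7) := by decide +kernel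

theorem eq_z3_all : ∀ i, i < 1782 → Cfsg.Agent.Helper28.eqPt Cfsg.Agent.Helper28.C1680.T z3_l z3_r i = true :=
  Cfsg.Agent.Helper28.pts_of_chunks _ 1782 512 4 (by decide) (by decide)
    (Cfsg.Agent.Helper28.allLt_succ _ 3 (Cfsg.Agent.Helper28.allLt_succ _ 2 (Cfsg.Agent.Helper28.allLt_succ _ 1 (Cfsg.Agent.Helper28.allLt_succ _ 0 (Cfsg.Agent.Helper28.allLt_zero _) eq_z3_0) eq_z3_1) eq_z3_2) eq_z3_3)

theorem eq_z3_let : (∀ a ∈ z3_l, a < 7) ∧ (∀ a ∈ z3_r, a < 7) := by decide +kernel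

theorem eq_z5_all : ∀ i, i < 1782 → Cfsg.Agent.Helper28.eqPt Cfsg.Agent.Helper28.C1680.T z5_l z5_r i = true :=
  Cfsg.Agent.Helper28.pts_of_chunks _ 1782 512 4 (by decide) (by decide)
    (Cfsg.Agent.Helper28.allLt_succ _ 3 (Cfsg.Agent.Helper28.allLt_succ _ 2 (Cfsg.Agent.Helper28.allLt_succ _ 1 (Cfsg.Agent.Helper28.allLt_succ _ 0 (Cfsg.Agent.Helper28.allLt_zero _) eq_z5_0) eq_z5_1) eq_z5_2) eq_z5_3)

theorem eq_z5_let : (∀ a ∈ z5_l, a < 7) ∧ (∀ a ∈ z5_r, a < 7) := by decide +kernel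

theorem eq_z6_all : ∀ i, i < 1782 → Cfsg.Agent.Helper28.eqPt Cfsg.Agent.Helper28.C1680.T z6_l z6_r i = true :=
  Cfsg.Agent.Helper28.pts_of_chunks _ 1782 512 4 (by decide) (by decide)
    (Cfsg.Agent.Helper28.allLt_succ _ 3 (Cfsg.Agent.Helper28.allLt_succ _ 2 (Cfsg.Agent.Helper28.allLt_succ _ 1 (Cfsg.Agent.Helper28.allLt_succ _ 0 (Cfsg.Agent.Helper28.allLt_zero _) eq_z6_0) eq_z6_1) eq_z6_2) eq_z6_3)

theorem eq_z6_let : (∀ a ∈ z6_l, a < 7) ∧ (∀ a ∈ z6_r, a < 7) := by decide +kernel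

/-- the stabiliser chain bounds the order from below -/
theorem lb_chain [Finite Cfsg.Spor.Suz] :
    1782 * 1365 * 1024 * 180 * Nat.card (Cfsg.Agent.Helper28.fixSub Cfsg.Agent.Helper28.C1680.cert.perm [ov4 0, ov3 0, ov2 0, 0]) ≤ Nat.card Cfsg.Spor.Suz :=
  Cfsg.Agent.Helper28.chain_mul (Cfsg.Agent.Helper28.chain_mul (Cfsg.Agent.Helper28.chain_mul (Cfsg.Agent.Helper28.C1680.cert.lb_top) (Cfsg.Agent.Helper28.C1680.cert.lb_level [0] W2 1365 ov2 op2 otp2 otw2 fix2 lb2_all)) (Cfsg.Agent.Helper28.C1680.cert.lb_level [ov2 0, 0] W3 1024 ov3 op3 otp3 otw3 fix3 lb3_all)) (Cfsg.Agent.Helper28.C1680.cert.lb_level [ov3 0, ov2 0, 0] W4 180 ov4 op4 otp4 otw4 fix4 lb4_all)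

end Cfsg.Agent.Helper28.SZL1
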